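import Cfsg.Agent.Lib.PF.Sec4b

/-! Hypothesis (4.2) of Peterfalvi for the whole group. -/

set_option autoImplicit false

namespace Cfsg.Lib.PF

open Cfsg Cfsg.Lib.Clifford Cfsg.Lib.Char Subgroup

variable {L : Type*} [Group L] [Finite L] {K W₁ W₂ : Subgroup L}

theorem primeTI_top [hK : K.Normal] (hKW₁ : K ⊓ W₁ = ⊥) (hKW₁' : K ⊔ W₁ = ⊤) (hW₁ : W₁ ≠ ⊥) (hW₁c : IsCyclic W₁)
    (hHall : Nat.Coprime (Nat.card W₁) W₁.index) (hW₂ : W₂ ≠ ⊥) (hW₂c : IsCyclic W₂) (hW₂K : W₂ ≤ K)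
    (hC : ∀ x ∈ W₁, x ≠ 1 → K ⊓ Subgroup.centralizer ({x} : Set L) = W₂) (hodd : Odd (Nat.card ↥(W₁ ⊔ W₂))) :
    PrimeTI ⊤ K W₁ W₂ := by
  have h1 : ∀ m ∈ (⊤ : Subgroup L), ∃ a ∈ K, ∃ b ∈ W₁, m = a * b := fun m _ =>
    exists_mul_of_mem_sup_nrm' (nrm_of_normal W₁ K) (by rw [sup_comm, hKW₁']; trivial)
  have h2 := card_mul_card_of_prod le_top le_top h1
  rw [hKW₁, card_bot, one_mul, card_top, ← W₁.index_mul_card] at h2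
  exact ⟨⟨le_top, le_top, hKW₁, h1⟩, nrm_of_normal _ _, hW₁, Nat.eq_of_mul_eq_mul_right Nat.card_pos h2 ▸ hHall, hW₁c,
    hW₂, hW₂K, hW₂c, hC, hodd⟩

theorem CyclicTI.selfNormalizing (h : CyclicTI ⊤ W₁ W₂) : IsSelfNormalizingCyclic W₁ W₂ := by
  refine ⟨h.ne₁, h.ne₂, h.inf, h.comm₁₂, h.cyclic, fun X hX ⟨x, hx⟩ => ?_⟩
  have hV : ∀ y ∈ X, y ∈ cycV W₁ W₂ := fun y hy => ⟨(hX hy).1, not_or.1 (hX hy).2⟩
  ext g
  refine ⟨fun hg => (h.ti.mem_iff x (hV x hx) g trivial).1 (hV _ ((hg x).1 hx)), fun hg => ?_⟩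
  refine fun y => ⟨fun hy => ?_, fun hy => ?_⟩
  · rwa [h.comm hg (hX hy).1, mul_inv_cancel_right]
  · have hy' : y ∈ W₁ ⊔ W₂ := by
      simpa [mul_assoc] using mul_mem (mul_mem (inv_mem hg) (hX hy).1) hg
    rwa [h.comm hg hy', mul_inv_cancel_right] at hy

theorem CyclicTI.cycIrr_resLin {G : Subgroup L} (h : CyclicTI G W₁ W₂) (ω : Lin (W₁ ⊔ W₂)) :
    cycIrr (resLin le_sup_left ω) (resLin le_sup_right ω) = lin ω :=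
  h.irr_ext (h.irr_cf _ _) (lin_cf ω) fun a ha b hb => by
    rw [h.irr_apply _ _ ha hb, lin_resLin, lin_resLin, cut_of_mem _ ha, cut_of_mem _ hb,
      lin_map_mul _ (mem_sup_left ha) (mem_sup_right hb)]

end Cfsg.Lib.PF
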