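import Cfsg.Agent.Lib.FT.Sec8a
import Cfsg.Agent.Lib.PF.Sec3

/-! Dictionary between `IsCyclicTIFamily` and `cycEta`. -/

set_option autoImplicit false
set_option linter.unusedSectionVars false

namespace Cfsg.Lib.PF

open Cfsg Cfsg.Lib.Clifford Cfsg.Lib.BG1 Cfsg.Lib.Amalg Cfsg.Lib.FT Subgroup

variable {G : Type*} [Group G] [Fintype G] {W₁ W₂ : Subgroup G}

theorem normedTI_of_selfNorm (h : IsSelfNormalizingCyclic W₁ W₂) : NormedTI (cycV W₁ W₂) ⊤ (W₁ ⊔ W₂) := by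
  obtain ⟨h1, h2, h3, h4, h5, h6⟩ := h
  have hV : cycV W₁ W₂ ⊆ (↑(W₁ ⊔ W₂) : Set G) \ (↑W₁ ∪ ↑W₂) := (cycV_eq W₁ W₂).le
  have hne : (cycV W₁ W₂).Nonempty := by
    obtain ⟨⟨a, ha⟩, ha1⟩ := ne_bot_iff_exists_ne_one.1 h1
    obtain ⟨⟨b, hb⟩, hb1⟩ := ne_bot_iff_exists_ne_one.1 h2
    exact ⟨a * b, mul_mem (mem_sup_left ha) (mem_sup_right hb),
      fun h => hb1 (Subtype.ext (mem_bot.1 (h3 ▸ mem_inf.2 ⟨(mul_mem_cancel_left ha).1 h, hb⟩))),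
      fun h => ha1 (Subtype.ext (mem_bot.1 (h3 ▸ mem_inf.2 ⟨ha, (mul_mem_cancel_right hb).1 h⟩)))⟩
  have hc : ∀ a ∈ cycV W₁ W₂, 𝐂[a] = W₁ ⊔ W₂ := fun a ha => by
    rw [← h6 {a} (Set.singleton_subset_iff.2 (hV ha)) (Set.singleton_nonempty a), normalizer_singleton]
  refine ⟨hne, le_top, fun a ha g _ => ⟨fun hg => ?_, fun hg => ?_⟩⟩
  · have hgW : g ∈ 𝐍(W₁ ⊔ W₂) := by
      rw [← cj_eq_self_iff]
      conv_lhs => rw [← hc a ha]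
      rw [cj_centralizer_singleton, hc _ hg]
    have hg1 := PGrp.normalizer_le_normalizer_of_isCyclic h5 le_sup_left hgW
    have hg2 := PGrp.normalizer_le_normalizer_of_isCyclic h5 le_sup_right hgW
    rw [← h6 _ hV hne, mem_set_normalizer_iff]
    intro n
    simp only [cycV, Set.mem_ofPred_eq]
    rw [← mem_normalizer_iff.1 hgW n, ← mem_normalizer_iff.1 hg1 n, ← mem_normalizer_iff.1 hg2 n]
  · rw [← hc a ha, mem_cent1] at hg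
    rwa [hg, mul_inv_cancel_right]

/-- `(1 - φ)(1 - ψ)` on the ambient group. -/
noncomputable def alphaT (φ ψ : Lin (W₁ ⊔ W₂)) : G → ℂ := lin (1 : Lin (W₁ ⊔ W₂)) - lin φ - lin ψ + lin (φ * ψ)

theorem alphaT_eq (φ ψ : ↥(W₁ ⊔ W₂) →* ℂˣ) : extendByZero (W₁ ⊔ W₂)
    (fun w => 1 - (φ w : ℂ) - (ψ w : ℂ) + (φ w : ℂ) * (ψ w : ℂ)) = alphaT (.ofHom φ) (.ofHom ψ) := by
  funext x
  by_cases hx : x ∈ W₁ ⊔ W₂
  · simp [alphaT, extendByZero_of_mem _ hx, lin_of_mem _ hx, Lin.hom_mul, Lin.hom_one, Lin.hom_ofHom]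
  · simp [alphaT, extendByZero_of_notMem _ hx, lin_of_notMem _ hx]

theorem alphaT_cfon {φ ψ : ↥(W₁ ⊔ W₂) →* ℂˣ} (hφ : ∀ w : ↥(W₁ ⊔ W₂), (w : G) ∈ W₂ → φ w = 1)
    (hψ : ∀ w : ↥(W₁ ⊔ W₂), (w : G) ∈ W₁ → ψ w = 1) :
    alphaT (.ofHom φ) (.ofHom ψ) ∈ CFon (W₁ ⊔ W₂) (cycV W₁ W₂) := by
  refine ⟨add_mem (sub_mem (sub_mem (lin_cf _) (lin_cf _)) (lin_cf _)) (lin_cf _), fun x hx => ?_⟩
  rw [← alphaT_eq]
  by_cases hW : x ∈ W₁ ⊔ W₂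
  · rw [extendByZero_of_mem _ hW]
    by_cases h1 : x ∈ W₁
    · simp [hψ ⟨x, hW⟩ h1]
    · simp [hφ ⟨x, hW⟩ (by_contra fun h2 => hx ⟨hW, h1, h2⟩)]
  · exact extendByZero_of_notMem _ hW

theorem dot_alphaT_lin (hc : ∀ a ∈ W₁, ∀ b ∈ W₂, a * b = b * a) {φ φ' ψ ψ' : Lin (W₁ ⊔ W₂)}
    (hφ : ∀ w : ↥(W₁ ⊔ W₂), (w : G) ∈ W₂ → φ.hom w = 1 ∧ φ'.hom w = 1)
    (hψ : ∀ w : ↥(W₁ ⊔ W₂), (w : G) ∈ W₁ → ψ.hom w = 1 ∧ ψ'.hom w = 1) :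
    dot (W₁ ⊔ W₂) (alphaT φ ψ) (lin (φ' * ψ')) =
      ((if φ = φ' then 1 else 0) - if 1 = φ' then 1 else 0) * ((if ψ = ψ' then 1 else 0) - if 1 = ψ' then 1 else 0) := by
  have key : ∀ {φ ψ : Lin (W₁ ⊔ W₂)}, (∀ w : ↥(W₁ ⊔ W₂), (w : G) ∈ W₂ → φ.hom w = 1) →
      (∀ w : ↥(W₁ ⊔ W₂), (w : G) ∈ W₁ → ψ.hom w = 1) → dot (W₁ ⊔ W₂) (lin (φ * ψ)) (lin (φ' * ψ')) =
        (if φ = φ' then 1 else 0) * if ψ = ψ' then 1 else 0 := fun {φ ψ} h1 h2 => by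
    rw [dot_lin, ite_zero_mul_ite_zero, one_mul]
    refine if_congr ⟨fun e => ?_, fun e => by rw [e.1, e.2]⟩ rfl rfl
    have h3 : φ = φ' := Lin.ext fun w => by
      obtain ⟨a, ha, b, hb, e'⟩ := exists_mul_of_mem_sup_nrm
        (fun a ha b hb => by rwa [hc a ha b hb, mul_inv_cancel_right]) w.2
      have := congrArg (·.hom ⟨a, mem_sup_left ha⟩) e
      simp only [Lin.hom_mul, h2 ⟨a, _⟩ ha, (hψ ⟨a, _⟩ ha).2, mul_one] at this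
      rw [show w = ⟨a, mem_sup_left ha⟩ * ⟨b, mem_sup_right hb⟩ from Subtype.ext e', map_mul, map_mul, this,
        h1 ⟨b, _⟩ hb, (hφ ⟨b, _⟩ hb).2]
    exact ⟨h3, mul_left_cancel (h3 ▸ e)⟩
  have h1 := key (φ := 1) (ψ := 1) (fun _ _ => rfl) fun _ _ => rfl
  have h2 := key (ψ := 1) (fun w h => (hφ w h).1) fun _ _ => rfl
  have h3 := key (φ := 1) (fun _ _ => rfl) fun w h => (hψ w h).1
  rw [mul_one] at h1 h2
  rw [one_mul] at h3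
  rw [alphaT, dot_add_left, dot_sub_left, dot_sub_left, h1, h2, h3, key (fun w h => (hφ w h).1) fun w h => (hψ w h).1]
  ring

variable {χ : (↥(W₁ ⊔ W₂) →* ℂˣ) → G → ℂ}

theorem family_dirr (h : IsCyclicTIFamily W₁ W₂ χ) (ω) : Dirr ⊤ (χ ω) :=
  (h.irr_or_neg ω).imp mem_Irr_top.mpr mem_Irr_top.mpr

theorem family_apply (h : IsCyclicTIFamily W₁ W₂ χ) (ω : Lin (W₁ ⊔ W₂)) {x : G} (hx : x ∈ cycV W₁ W₂) :
    χ ω x = lin ω x := (h.eq_on ω ⟨x, hx.1⟩ hx.2.1 hx.2.2).trans (lin_of_mem ω hx.1).symm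

theorem family_ind (h : IsCyclicTIFamily W₁ W₂ χ) {φ ψ : ↥(W₁ ⊔ W₂) →* ℂˣ}
    (hφ : ∀ w : ↥(W₁ ⊔ W₂), (w : G) ∈ W₂ → φ w = 1) (hψ : ∀ w : ↥(W₁ ⊔ W₂), (w : G) ∈ W₁ → ψ w = 1) :
    ind (W₁ ⊔ W₂) ⊤ (alphaT (.ofHom φ) (.ofHom ψ)) = χ 1 - χ φ - χ ψ + χ (φ * ψ) := by
  by_cases h1 : φ = 1
  · subst h1
    rw [show alphaT (Lin.ofHom 1) (.ofHom ψ) = 0 by
      rw [alphaT, show Lin.ofHom 1 = (1 : Lin (W₁ ⊔ W₂)) from rfl, one_mul]; ring, ind_zero,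
      show (1 : ↥(W₁ ⊔ W₂) →* ℂˣ) * ψ = ψ from one_mul ψ]
    ring
  by_cases h2 : ψ = 1
  · subst h2
    rw [show alphaT (Lin.ofHom φ) (.ofHom 1) = 0 by
      rw [alphaT, show Lin.ofHom 1 = (1 : Lin (W₁ ⊔ W₂)) from rfl, mul_one]; ring, ind_zero,
      show φ * (1 : ↥(W₁ ⊔ W₂) →* ℂˣ) = φ from mul_one φ]
    ring
  rw [← alphaT_eq, ← indFun_eq_ind, h.induced_eq φ ψ h1 h2 hφ hψ, h.map_one]
  rfl

/-- First component of a linear character of `W₁ × W₂`. -/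
abbrev res₁ (ω : Lin (W₁ ⊔ W₂)) : Lin W₁ := resLin le_sup_left ω
/-- Second component of a linear character of `W₁ × W₂`. -/
abbrev res₂ (ω : Lin (W₁ ⊔ W₂)) : Lin W₂ := resLin le_sup_right ω

theorem resLin_eq_iff {V W : Subgroup G} (h : V ≤ W) (φ ψ : Lin W) :
    resLin h φ = resLin h ψ ↔ ∀ w : W, (w : G) ∈ V → (φ * ψ⁻¹).hom w = 1 :=
  ⟨fun e w hw => mul_inv_eq_one.mpr (DFunLike.congr_fun (congrArg Lin.hom e) ⟨w, hw⟩),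
    fun e => Lin.ext fun w => mul_inv_eq_one.mp (e ⟨w, h w.2⟩ w.2)⟩

theorem orderOf_resLin_dvd {V W : Subgroup G} (h : V ≤ W) (φ : Lin W) : orderOf (resLin h φ) ∣ orderOf φ :=
  orderOf_dvd_of_pow_eq_one (Lin.ext fun w => DFunLike.congr_fun (congrArg Lin.hom (pow_orderOf_eq_one φ)) ⟨w, h w.2⟩)

namespace CyclicTI
variable (h : CyclicTI ⊤ W₁ W₂)
include h

theorem lin_eq (ω : Lin (W₁ ⊔ W₂)) : lin ω = cycIrr (res₁ ω) (res₂ ω) :=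
  h.irr_ext (lin_cf _) (h.irr_cf _ _) fun a ha b hb => by
    rw [h.irr_apply _ _ ha hb, lin_resLin, lin_resLin, cut_of_mem _ ha, cut_of_mem _ hb,
      lin_map_mul _ (mem_sup_left ha) (mem_sup_right hb)]

theorem res_bijective : Function.Bijective fun ω : Lin (W₁ ⊔ W₂) => (res₁ ω, res₂ ω) :=
  ⟨fun ω ω' e => lin_injective (by rw [h.lin_eq, h.lin_eq]; exact h.irr_inj.mpr (Prod.ext_iff.mp e)),
    fun p => by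
      obtain ⟨ω, e⟩ := exists_lin_of_comm (fun _ ha _ hb => h.comm ha hb) (h.irr_mem p.1 p.2)
      rw [h.lin_eq, h.irr_inj] at e
      exact ⟨ω, Prod.ext e.1.symm e.2.symm⟩⟩

theorem family_eq (hχ : IsCyclicTIFamily W₁ W₂ χ) (ω : Lin (W₁ ⊔ W₂)) : χ ω = cycEta ⊤ (res₁ ω) (res₂ ω) :=
  h.eq_eta (family_dirr hχ ω) fun _ hx => by rw [family_apply hχ ω hx, h.lin_eq]

end CyclicTI

end Cfsg.Lib.PF
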